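/-
Arithmetic on packed vectors over the fields with four and with three elements, and the finite
checks on the 126-point model.
-/
import Cfsg.Agent.H38.M22Link.Data

set_option autoImplicit false

namespace H38.M22Link

/-- Digit `i` of a packed vector over the field with four elements. -/
def d4 (u i : Nat) : Nat := (u >>> (2 * i)) % 4

/-- Product in the field with four elements. -/
def m4 (a b : Nat) : Nat := (mulTab >>> (2 * (4 * a + b))) % 4

/-- The conjugate. -/
def c4 (a : Nat) : Nat := m4 a a

/-- The hermitian form in hyperbolic coordinates. -/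
def h4 (u v : Nat) : Nat :=
  (m4 (d4 u 0) (c4 (d4 v 3)) ^^^ m4 (d4 u 3) (c4 (d4 v 0))) ^^^
    ((m4 (d4 u 1) (c4 (d4 v 4)) ^^^ m4 (d4 u 4) (c4 (d4 v 1))) ^^^
      (m4 (d4 u 2) (c4 (d4 v 5)) ^^^ m4 (d4 u 5) (c4 (d4 v 2))))

/-- Scalar multiple. -/
def s4 (c u : Nat) : Nat :=
  m4 c (d4 u 0) + 4 * m4 c (d4 u 1) + 16 * m4 c (d4 u 2) + 64 * m4 c (d4 u 3) +
    256 * m4 c (d4 u 4) + 1024 * m4 c (d4 u 5)

/-- The image of `w` under the transvection with centre `v`. -/
def t4 (v w : Nat) : Nat := w ^^^ s4 (h4 w v) v

/-- The points generated along a list of steps. -/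
def run : List (Nat × Nat) → List Nat → List Nat
  | [], l => l
  | (x, y) :: r, l => run r (l ++ [t4 (l.getD x 0) (l.getD y 0)])

/-- The `i`-th point. -/
def pt (i : Nat) : Nat := (ptTab >>> (12 * i)) % 4096

/-- The index of a vector. -/
def idx (u : Nat) : Nat := (idxTab >>> (8 * u)) % 256

/-- The image of point `j` under the transvection at point `i`. -/
def op (i j : Nat) : Nat := idx (t4 (pt i) (pt j))

/-- Digit `i` of a packed vector over the field with three elements. -/
def d3 (u i : Nat) : Nat := (u / 3 ^ i) % 3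

/-- Sum of the products of coordinates. -/
def b3 (u v : Nat) : Nat :=
  (d3 u 0 * d3 v 0 + d3 u 1 * d3 v 1 + d3 u 2 * d3 v 2 + d3 u 3 * d3 v 3 + d3 u 4 * d3 v 4 +
    d3 u 5 * d3 v 5) % 3

/-- `v + t u`. -/
def a3 (t u v : Nat) : Nat :=
  (d3 v 0 + t * d3 u 0) % 3 + 3 * ((d3 v 1 + t * d3 u 1) % 3) + 9 * ((d3 v 2 + t * d3 u 2) % 3) +
    27 * ((d3 v 3 + t * d3 u 3) % 3) + 81 * ((d3 v 4 + t * d3 u 4) % 3) +
    243 * ((d3 v 5 + t * d3 u 5) % 3)

/-- The `i`-th vector of norm one. -/
def rv (i : Nat) : Nat := (rvTab >>> (10 * i)) % 1024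

/-- The index of a vector of norm one. -/
def ridx (n : Nat) : Nat := (ridxTab >>> (8 * n)) % 256

theorem pts_run : (List.range 126).map pt = run modelSteps (seeds 0) := by decide +kernel

theorem seeds_eq : (List.range 9).map pt = seeds 0 := by decide +kernel

theorem idx_check : ((List.range 126).all fun i => [1, 2, 3].all fun c =>
    idx (s4 c (pt i)) == i) = true := by decide +kernel

theorem idx_zero : idx 0 = 255 := by decide +kernel

theorem idx_inv_check : ((List.range 4096).all fun u => idx u == 255 ||
    (decide (idx u < 126) && [1, 2, 3].any fun c => s4 c (pt (idx u)) == u)) = true := by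
  decide +kernel

theorem cover_check : ((List.range 4096).all fun u => u == 0 || h4 u u != 0 ||
    (List.range 126).any fun i => h4 u (pt i) == 0) = true := by decide +kernel

theorem deg_check : ((List.range 126).all fun i =>
    ((List.range 126).countP fun j => j != i && h4 (pt j) (pt i) == 0) == 45) = true := by
  decide +kernel

theorem rv_check : ((List.range 126).all fun i => rv i < 729 && b3 (rv i) (rv i) == 1 &&
    ridx (rv i) == i && ridx (a3 1 (rv i) (rv i)) == i) = true := by decide +kernel

theorem rv_cover_check : ((List.range 729).all fun n => b3 n n != 1 ||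
    (decide (ridx n < 126) && (rv (ridx n) == n || a3 1 (rv (ridx n)) (rv (ridx n)) == n))) = true := by
  decide +kernel

theorem op_check : ((List.range 126).all fun i => (List.range 126).all fun j =>
    decide (op i j < 126) && op i j == ridx (a3 (b3 (rv i) (rv j)) (rv i) (rv j))) = true := by
  decide +kernel

/-- Three distinct, pairwise orthogonal members on a line. -/
def badTriple (l : List Nat) (i j k a b : Nat) : Bool :=
  h4 (l.getD i 0) (l.getD j 0) == 0 && h4 (l.getD i 0) (l.getD k 0) == 0 &&
    h4 (l.getD j 0) (l.getD k 0) == 0 && (s4 a (l.getD i 0) ^^^ s4 b (l.getD j 0)) == l.getD k 0 &&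
    (l.getD i 0 != 0 && l.getD j 0 != 0 && [1, 2, 3].all fun c => s4 c (l.getD i 0) != l.getD j 0)

theorem bad_one : badTriple (run badSteps1 (seeds 1)) 14 15 16 2 2 = true := by decide +kernel

theorem bad_two : badTriple (run badSteps2 (seeds 2)) 14 15 16 1 1 = true := by decide +kernel

theorem bad_three : badTriple (run badSteps3 (seeds 3)) 14 15 16 1 1 = true := by decide +kernel

end H38.M22Link
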